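import Cfsg.Agent.H613.KKL.Defs
import Cfsg.Agent.MinSimple.Basic
import Cfsg.Agent.EvenType.ChevTwoTits
import Cfsg.Agent.CpAutTits.Row

/-!
# S4546: groups of characteristic 2 type; the Tits group (helper652)

* `kill_charTwo` : in a group of characteristic 2 type a configuration `Cfg0 D x` has `x = 1`, `|S|_2 = 8`;
* `E_tits` : the Tits group has no configuration.
-/

set_option autoImplicit false

open Cfsg Subgroup Cfsg.Agent.H613.KKL

namespace Cfsg.Agent.H652.KKL

universe u

variable {S : Type u} [Group S] [Finite S] {D : Subgroup S} {x : S}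

theorem exists_ne_one (h : E8 D) : ∃ z ∈ D, z ≠ 1 := by
  by_contra hn
  push Not at hn
  have h1 : D = ⊥ := (Subgroup.eq_bot_iff_forall D).2 hn
  have h2 := h.card
  rw [h1, Subgroup.card_bot] at h2
  omega

theorem comm_of_e8 (h : E8 D) {a b : S} (ha : a ∈ D) (hb : b ∈ D) : a * b = b * a := by
  have h1 := h.inv a ha
  have h2 := h.inv b hb
  have h3 := h.inv _ (D.mul_mem ha hb)
  have h4 : a⁻¹ = a := inv_eq_of_mul_eq_one_left h1
  have h5 : b⁻¹ = b := inv_eq_of_mul_eq_one_left h2
  have h6 : (a * b)⁻¹ = a * b := inv_eq_of_mul_eq_one_left h3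
  rw [mul_inv_rev, h4, h5] at h6
  exact h6.symm

/-- **The characteristic 2 situation.** -/
theorem kill_of_normal (h : Cfg0 D x) {z : S} (hz : z ∈ D)
    {N : Subgroup S} (hN2 : IsPGroup 2 N) (hNz : N ≤ Subgroup.centralizer {z})
    (hNn : ∀ c ∈ Subgroup.centralizer ({z} : Set S), ∀ n ∈ N, c * n * c⁻¹ ∈ N)
    (hC : ∀ c ∈ Subgroup.centralizer ({z} : Set S), (∀ n ∈ N, n * c = c * n) → c ∈ N) :
    x = 1 ∧ (Nat.card S).factorization 2 = 3 := by
  have : Fact (Nat.Prime 2) := ⟨Nat.prime_two⟩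
  have h8 := h.e8
  have hzc : Subgroup.centralizer ((Subgroup.zpowers z : Subgroup S) : Set S) = Subgroup.centralizer {z} := by
    rw [Subgroup.zpowers_eq_closure, Subgroup.centralizer_closure]
  have hND : N ≤ D := by
    refine h.rad (Subgroup.zpowers z) ((Subgroup.zpowers_le (H := D)).2 hz) N hN2 ?_ ?_
    · rw [hzc]; exact hNz
    · rw [hzc]; exact hNn
  have hDz : D ≤ Subgroup.centralizer {z} := by
    intro d hd
    rw [Subgroup.mem_centralizer_singleton_iff]
    exact comm_of_e8 h8 hd hz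
  have hDN : D ≤ N := fun d hd => hC d (hDz hd) fun n hn => comm_of_e8 h8 (hND hn) hd
  have hxc : x ∈ Subgroup.centralizer ({z} : Set S) := by
    rw [Subgroup.mem_centralizer_singleton_iff]
    exact (h.comm z hz).symm
  have hxN : x ∈ D := hND (hC x hxc fun n hn => h.comm n (hND hn))
  have hx1 : x = 1 := by
    have h1 : x ^ 2 = 1 := by rw [sq]; exact h8.inv x hxN
    have h2 : orderOf x ∣ 2 := orderOf_dvd_of_pow_eq_one h1
    have h3 : orderOf x = 1 := by
      rcases (Nat.dvd_prime Nat.prime_two).1 h2 with h4 | h4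
      · exact h4
      · have h5 := h.odd
        rw [h4] at h5
        exact absurd h5 (by decide)
    exact orderOf_eq_one_iff.1 h3
  refine ⟨hx1, ?_⟩
  obtain ⟨P⟩ : Nonempty (Sylow 2 S) := inferInstance
  obtain ⟨c, -, hc⟩ := h.syl P P.isPGroup' (by intro q _; rw [hx1, mul_one, one_mul])
  have hPle : Nat.card (P : Subgroup S) ≤ 8 := by
    rw [← h8.card]
    refine Nat.card_le_card_of_injective (fun q : (P : Subgroup S) => (⟨c * q * c⁻¹, hc q q.2⟩ : D)) ?_
    intro a b hab
    have h1 : c * (a : S) * c⁻¹ = c * b * c⁻¹ := congrArg Subtype.val hab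
    exact Subtype.ext (mul_left_cancel (mul_right_cancel h1))
  have h5 : Nat.card (P : Subgroup S) = 2 ^ (Nat.card S).factorization 2 := P.card_eq_multiplicity
  have hD2 : 2 ^ 3 ∣ Nat.card S := by
    have h6 := Subgroup.card_subgroup_dvd_card D
    rw [h8.card] at h6
    exact h6
  have h6 : 3 ≤ (Nat.card S).factorization 2 := (Nat.prime_two.pow_dvd_iff_le_factorization Nat.card_pos.ne').1 hD2
  rw [h5] at hPle
  have h7 : (Nat.card S).factorization 2 ≤ 3 := by
    by_contra h8
    have h9 : 2 ^ 4 ≤ 2 ^ (Nat.card S).factorization 2 := Nat.pow_le_pow_right (by norm_num) (by omega)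
    omega
  omega

theorem kill_charTwo (hct : IsCharacteristicTwoType S) (h : Cfg0 D x) :
    x = 1 ∧ (Nat.card S).factorization 2 = 3 := by
  obtain ⟨z, hz, hz1⟩ := exists_ne_one h.e8
  have hzz : z ^ 2 = 1 := by rw [sq]; exact h.e8.inv z hz
  have h1 := MinSimple.Basic.char2_centralizer hct hzz hz1
  refine kill_of_normal h hz (MinSimple.VModule.o2_isPGroup _) (Subgroup.map_subtype_le _) ?_ ?_
  · intro c hc n hn
    exact (Subgroup.mem_normalizer_iff.1 (MinSimple.VModule.le_normalizer_o2 _ hc) n).1 hn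
  · intro c hc hcn
    exact h1 ⟨hc, Subgroup.mem_centralizer_iff.2 hcn⟩

/-- **The Tits group.** -/
theorem E_tits (h : Lie.IsoTits S) : NoCfg S := by
  intro D x hc
  obtain ⟨-, h1⟩ := kill_charTwo (EvenType.ChevTwoTits.charTwo h) hc
  have h2 := (CpAutTits.Row.out h).card
  rw [h2] at h1
  have h3 : 2 ^ 4 ∣ 2 ^ 11 * 3 ^ 3 * 5 ^ 2 * 13 := by norm_num
  have h4 := (Nat.prime_two.pow_dvd_iff_le_factorization (by norm_num)).1 h3
  omega

end Cfsg.Agent.H652.KKL
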