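import Cfsg.Agent.H613.KKL.Defs
import Cfsg.Agent.H652.KKL.Tits
import Cfsg.Agent.OddHalf.Known

/-!
# S4546: the assembly of the rows (helper652)

`Rows` : the exact statements of all rows (tools/plans/S4546_stubs.lean.txt), A5, A6, A7;
`Rows.g1` : quasisimple groups with odd centre satisfy `HZ`.
-/

set_option autoImplicit false

open Cfsg Cfsg.Agent.H613.KKL
open scoped commutatorElement

namespace Cfsg.Agent.H652.KKL

universe u

/-- the rows of the sporadic groups -/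
structure SporRows : Prop where
  M11 : ∀ {S : Type u} [Group S] [Finite S], Spor.IsoM11 S → NoCfg S
  M12 : ∀ {S : Type u} [Group S] [Finite S], Spor.IsoM12 S → NoCfg S
  M22 : ∀ {S : Type u} [Group S] [Finite S], Spor.IsoM22 S → NoCfg S
  M23 : ∀ {S : Type u} [Group S] [Finite S], Spor.IsoM23 S → NoCfg S
  M24 : ∀ {S : Type u} [Group S] [Finite S], Spor.IsoM24 S → NoCfg S
  J2 : ∀ {S : Type u} [Group S] [Finite S], Spor.IsoJ2 S → NoCfg S
  J3 : ∀ {S : Type u} [Group S] [Finite S], Spor.IsoJ3 S → NoCfg S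
  J4 : ∀ {S : Type u} [Group S] [Finite S], Spor.IsoJ4 S → NoCfg S
  Co1 : ∀ {S : Type u} [Group S] [Finite S], Spor.IsoCo1 S → NoCfg S
  Co2 : ∀ {S : Type u} [Group S] [Finite S], Spor.IsoCo2 S → NoCfg S
  McL : ∀ {S : Type u} [Group S] [Finite S], Spor.IsoMcL S → NoCfg S
  HS : ∀ {S : Type u} [Group S] [Finite S], Spor.IsoHS S → NoCfg S
  Suz : ∀ {S : Type u} [Group S] [Finite S], Spor.IsoSuz S → NoCfg S
  He : ∀ {S : Type u} [Group S] [Finite S], Spor.IsoHe S → NoCfg S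
  Ru : ∀ {S : Type u} [Group S] [Finite S], Spor.IsoRu S → NoCfg S
  ON : ∀ {S : Type u} [Group S] [Finite S], Spor.IsoON S → NoCfg S
  Ly : ∀ {S : Type u} [Group S] [Finite S], Spor.IsoLy S → NoCfg S
  Fi22 : ∀ {S : Type u} [Group S] [Finite S], Spor.IsoFi22 S → NoCfg S
  Fi23 : ∀ {S : Type u} [Group S] [Finite S], Spor.IsoFi23 S → NoCfg S
  Fi24 : ∀ {S : Type u} [Group S] [Finite S], Spor.IsoFi24' S → NoCfg S
  HN : ∀ {S : Type u} [Group S] [Finite S], Spor.IsoHN S → NoCfg S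
  Th : ∀ {S : Type u} [Group S] [Finite S], Spor.IsoTh S → NoCfg S
  B : ∀ {S : Type u} [Group S] [Finite S], Spor.IsoB S → NoCfg S
  M : ∀ {S : Type u} [Group S] [Finite S], Spor.IsoM S → NoCfg S

/-- the rows of the groups of Lie type in odd characteristic -/
structure LieRows : Prop where
  psl : ∀ {F : Type} [Field F] [Fintype F] {p : ℕ} [Fact p.Prime] [CharP F p], p ≠ 2 → ∀ n : ℕ, 2 ≤ n →
    NoCfg (Matrix.ProjectiveSpecialLinearGroup (Fin n) F)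
  psp : ∀ {F : Type} [Field F] [Fintype F] {p : ℕ} [Fact p.Prime] [CharP F p], p ≠ 2 → ∀ m : ℕ, 2 ≤ m →
    NoCfg (PSp m F)
  psu : ∀ {F : Type} [Field F] [Fintype F] {p : ℕ} [Fact p.Prime] [CharP F p], p ≠ 2 → ∀ n q : ℕ,
    Fintype.card F = q ^ 2 → 3 ≤ n → NoCfg (PSU n F q)
  oodd : ∀ {F : Type} [Field F] [Fintype F] {p : ℕ} [Fact p.Prime] [CharP F p], p ≠ 2 → ∀ m : ℕ, 3 ≤ m →
    NoCfg (POmega F (quadFormOdd m F))
  oplus : ∀ {F : Type} [Field F] [Fintype F] {p : ℕ} [Fact p.Prime] [CharP F p], p ≠ 2 → ∀ m : ℕ, 4 ≤ m →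
    NoCfg (POmega F (quadFormPlus m F))
  ominus : ∀ {F : Type} [Field F] [Fintype F] {p : ℕ} [Fact p.Prime] [CharP F p], p ≠ 2 →
    ∀ (m : ℕ) (a b : F), 4 ≤ m → (∀ z₁ z₂ : F, z₁ ^ 2 + a * z₁ * z₂ + b * z₂ ^ 2 = 0 → z₁ = 0 ∧ z₂ = 0) →
    NoCfg (POmega F (quadFormMinus (m - 1) F a b))
  g2 : ∀ {F : Type} [Field F] [Fintype F] {p : ℕ} [Fact p.Prime] [CharP F p], p ≠ 2 →
    NoCfg ↥(Lie.chevG2.group F)
  f4 : ∀ {F : Type} [Field F] [Fintype F] {p : ℕ} [Fact p.Prime] [CharP F p], p ≠ 2 →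
    NoCfg ↥(Lie.chevF4.group F)
  e6 : ∀ {F : Type} [Field F] [Fintype F] {p : ℕ} [Fact p.Prime] [CharP F p], p ≠ 2 →
    NoCfg ↥(Lie.chevE6.group F)
  e8 : ∀ {F : Type} [Field F] [Fintype F] {p : ℕ} [Fact p.Prime] [CharP F p], p ≠ 2 →
    NoCfg ↥(Lie.chevE8.group F)
  te6 : ∀ {F : Type} [Field F] [Fintype F] {p : ℕ} [Fact p.Prime] [CharP F p], p ≠ 2 → ∀ q : ℕ,
    Fintype.card F = q ^ 2 → NoCfg (Lie.twistedE6 F q)
  td4 : ∀ {F : Type} [Field F] [Fintype F] {p : ℕ} [Fact p.Prime] [CharP F p], p ≠ 2 → ∀ q : ℕ,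
    Fintype.card F = q ^ 3 → NoCfg (Lie.twistedD4 F q)

/-- all rows of S4546 -/
structure Rows : Prop where
  A5 : ∀ {G : Type u} [Group G] [Finite G] {M : Ideal AlgInt}, IsPModular 2 M → ∀ {B : Set (IrrCharacter G)},
    IsPBlock M B → ∀ {D : Subgroup G}, IsDefectGroup 2 M B D → E8 D → ∀ {χ : IrrCharacter G}, χ ∈ B →
    blockHeight 2 B (χ : G → ℂ) ≠ 0 →
    ∃ (x : G) (θ : IrrCharacter ↥(Subgroup.centralizer (D : Set G))), CfgB D x θ
  A6 : ∀ {K : Type u} [Group K] [Finite K], Odd (Nat.card ↥(Subgroup.center K)) → ∀ {D : Subgroup K} {x : K},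
    Cfg0 D x → Cfg0 (D.map (QuotientGroup.mk' (Subgroup.center K))) (x : K ⧸ Subgroup.center K)
  A7 : ∀ {S : Type u} {S' : Type} [Group S] [Group S'], S ≃* S' → NoCfg S' → NoCfg S
  alt : ∀ {n : ℕ}, 5 ≤ n → NoCfg (alternatingGroup (Fin n))
  lie2 : ∀ {S : Type} [Group S] [Finite S] [IsSimpleGroup S], IsLieTypeChar 2 S → ∀ {D : Subgroup S} {x : S},
    Cfg0 D x → Nonempty (S ≃* Matrix.ProjectiveSpecialLinearGroup (Fin 2) (GaloisField 2 3))
  lie : LieRows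
  spor : SporRows.{u}
  L28 : ∀ {K : Type u} [Group K] [Finite K], IsQuasisimple K → Odd (Nat.card ↥(Subgroup.center K)) →
    Nonempty (K ⧸ Subgroup.center K ≃* Matrix.ProjectiveSpecialLinearGroup (Fin 2) (GaloisField 2 3)) → HZ K
  J1 : ∀ {K : Type u} [Group K] [Finite K], IsQuasisimple K → Odd (Nat.card ↥(Subgroup.center K)) →
    Spor.IsoJ1 (K ⧸ Subgroup.center K) → HZ K
  Ree : ∀ {K : Type u} [Group K] [Finite K], IsQuasisimple K → Odd (Nat.card ↥(Subgroup.center K)) →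
    Lie.IsoRee (K ⧸ Subgroup.center K) → HZ K
  Co3 : ∀ {K : Type u} [Group K] [Finite K], IsQuasisimple K → Odd (Nat.card ↥(Subgroup.center K)) →
    Spor.IsoCo3 (K ⧸ Subgroup.center K) → HZ K
  E7 : ∀ {K : Type u} [Group K] [Finite K], IsQuasisimple K → Odd (Nat.card ↥(Subgroup.center K)) →
    ∀ {F : Type} [Field F] [Fintype F] {p : ℕ} [Fact p.Prime] [CharP F p], p ≠ 2 →
    Nonempty (K ⧸ Subgroup.center K ≃* ↥(Lie.chevE7.group F)) → HZ K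

section

variable {K : Type u} [Group K] [Finite K]

/-- no configuration in `K / Z(K)` -/
theorem Rows.hz_of_noCfg (R : Rows.{u}) (hZ : Odd (Nat.card ↥(Subgroup.center K)))
    (h : NoCfg (K ⧸ Subgroup.center K)) : HZ K := by
  intro M hM B hB D hD h8 χ hχ
  by_contra hh
  obtain ⟨x, θ, hc⟩ := R.A5 hM hB hD h8 hχ hh
  exact h _ _ (R.A6 hZ hc.toCfg0)

theorem Rows.of_equiv (R : Rows.{u}) (hZ : Odd (Nat.card ↥(Subgroup.center K))) {S : Type} [Group S]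
    (e : K ⧸ Subgroup.center K ≃* S) (h : NoCfg S) : HZ K :=
  R.hz_of_noCfg hZ (R.A7 e h)

theorem isLie_equiv {p : ℕ} {X : Type u} {Y : Type} [Group X] [Group Y] (e : Y ≃* X) (h : IsLieTypeChar p X) :
    IsLieTypeChar p Y := by
  have key : ∀ {M : Type} [Group M], Nonempty (X ≃* M) → Nonempty (Y ≃* M) := fun ⟨f⟩ => ⟨e.trans f⟩
  rcases h with h | h | h | h | h | h | h | h | h | h | h
  · obtain ⟨F, i1, i2, i3, n, h1, h2, h3⟩ := h
    exact Or.inl ⟨F, i1, i2, i3, n, h1, h2, key h3⟩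
  · obtain ⟨F, i1, i2, i3, n, h1, h2, h3⟩ := h
    exact Or.inr (Or.inl ⟨F, i1, i2, i3, n, h1, h2, key h3⟩)
  · obtain ⟨F, i1, i2, i3, n, q, h1, h2, h3, h4⟩ := h
    exact Or.inr (Or.inr (Or.inl ⟨F, i1, i2, i3, n, q, h1, h2, h3, key h4⟩))
  · obtain ⟨F, i1, i2, i3, n, h1, h2, h3⟩ := h
    exact Or.inr (Or.inr (Or.inr (Or.inl ⟨F, i1, i2, i3, n, h1, h2, key h3⟩)))
  · obtain ⟨F, i1, i2, i3, n, h1, h2⟩ := h
    exact Or.inr (Or.inr (Or.inr (Or.inr (Or.inl ⟨F, i1, i2, i3, n, h1, key h2⟩))))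
  · obtain ⟨F, i1, i2, i3, n, a, b, h1, h2, h3⟩ := h
    exact Or.inr (Or.inr (Or.inr (Or.inr (Or.inr (Or.inl ⟨F, i1, i2, i3, n, a, b, h1, h2, key h3⟩)))))
  · obtain ⟨F, i1, i2, i3, h⟩ := h
    refine Or.inr (Or.inr (Or.inr (Or.inr (Or.inr (Or.inr (Or.inl ⟨F, i1, i2, i3, ?_⟩))))))
    rcases h with ⟨h1, h⟩ | h | h | h | h
    · exact Or.inl ⟨h1, key h⟩
    · exact Or.inr (Or.inl (key h))
    · exact Or.inr (Or.inr (Or.inl (key h)))
    · exact Or.inr (Or.inr (Or.inr (Or.inl (key h))))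
    · exact Or.inr (Or.inr (Or.inr (Or.inr (key h))))
  · obtain ⟨F, i1, i2, i3, q, hq, h⟩ := h
    refine Or.inr (Or.inr (Or.inr (Or.inr (Or.inr (Or.inr (Or.inr (Or.inl ⟨F, i1, i2, i3, q, hq, ?_⟩)))))))
    rcases h with ⟨h1, h⟩ | ⟨h1, h⟩
    · exact Or.inl ⟨h1, key h⟩
    · exact Or.inr ⟨h1, key h⟩
  · obtain ⟨h1, F, i1, i2, m, h2, h3, h4⟩ := h
    exact Or.inr (Or.inr (Or.inr (Or.inr (Or.inr (Or.inr (Or.inr (Or.inr (Or.inl
      ⟨h1, F, i1, i2, m, h2, h3, key h4⟩))))))))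
  · obtain ⟨h1, F, i1, i2, m, h2, h3, h4⟩ := h
    exact Or.inr (Or.inr (Or.inr (Or.inr (Or.inr (Or.inr (Or.inr (Or.inr (Or.inr (Or.inl
      ⟨h1, F, i1, i2, m, h2, h3, key h4⟩)))))))))
  · obtain ⟨h1, F, i1, i2, m, h2, h3, h4⟩ := h
    exact Or.inr (Or.inr (Or.inr (Or.inr (Or.inr (Or.inr (Or.inr (Or.inr (Or.inr (Or.inr
      ⟨h1, F, i1, i2, m, h2, h3, key h4⟩)))))))))

theorem Rows.of_lie2 (R : Rows.{u}) (hK : IsQuasisimple K) (hZ : Odd (Nat.card ↥(Subgroup.center K)))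
    (h : IsLieTypeChar 2 (K ⧸ Subgroup.center K)) : HZ K := by
  have : IsSimpleGroup (K ⧸ Subgroup.center K) := hK.2
  by_cases h1 : Nonempty (K ⧸ Subgroup.center K ≃* Matrix.ProjectiveSpecialLinearGroup (Fin 2) (GaloisField 2 3))
  · exact R.L28 hK hZ h1
  · have hsm : Small.{0} (K ⧸ Subgroup.center K) := inferInstance
    let e : Shrink.{0} (K ⧸ Subgroup.center K) ≃* K ⧸ Subgroup.center K := Shrink.mulEquiv
    have hf : Finite (Shrink.{0} (K ⧸ Subgroup.center K)) := Finite.of_equiv _ e.symm.toEquiv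
    have hs : IsSimpleGroup (Shrink.{0} (K ⧸ Subgroup.center K)) := by
      have hn : Nontrivial (Shrink.{0} (K ⧸ Subgroup.center K)) := e.toEquiv.nontrivial
      exact IsSimpleGroup.isSimpleGroup_of_surjective e.symm.toMonoidHom e.symm.surjective
    refine R.of_equiv hZ e.symm ?_
    intro D x hc
    obtain ⟨f⟩ := R.lie2 (isLie_equiv e h) hc
    exact h1 ⟨e.symm.trans f⟩

theorem Rows.of_lie (R : Rows.{u}) (hK : IsQuasisimple K) (hZ : Odd (Nat.card ↥(Subgroup.center K)))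
    {p : ℕ} (hp : p.Prime) (hp2 : p ≠ 2) (h : IsLieTypeChar p (K ⧸ Subgroup.center K)) : HZ K := by
  have : Fact p.Prime := ⟨hp⟩
  rcases h with h | h | h | h | h | h | h | h | h | h | h
  · obtain ⟨F, i1, i2, i3, n, h1, h2, ⟨e⟩⟩ := h
    exact R.of_equiv hZ e (R.lie.psl hp2 n h1)
  · obtain ⟨F, i1, i2, i3, n, h1, h2, ⟨e⟩⟩ := h
    exact R.of_equiv hZ e (R.lie.psp hp2 n h1)
  · obtain ⟨F, i1, i2, i3, n, q, h1, h2, h3, ⟨e⟩⟩ := h
    exact R.of_equiv hZ e (R.lie.psu hp2 n q h1 h2)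
  · obtain ⟨F, i1, i2, i3, n, h1, h2, ⟨e⟩⟩ := h
    exact R.of_equiv hZ e (R.lie.oodd hp2 n h1)
  · obtain ⟨F, i1, i2, i3, n, h1, ⟨e⟩⟩ := h
    exact R.of_equiv hZ e (R.lie.oplus hp2 n h1)
  · obtain ⟨F, i1, i2, i3, n, a, b, h1, h2, ⟨e⟩⟩ := h
    exact R.of_equiv hZ e (R.lie.ominus hp2 n a b h1 h2)
  · obtain ⟨F, i1, i2, i3, h⟩ := h
    rcases h with ⟨h1, ⟨e⟩⟩ | h | h | h | h
    · exact R.of_equiv hZ e (R.lie.g2 hp2)
    · obtain ⟨e⟩ := h
      exact R.of_equiv hZ e (R.lie.f4 hp2)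
    · obtain ⟨e⟩ := h
      exact R.of_equiv hZ e (R.lie.e6 hp2)
    · exact R.E7 hK hZ hp2 h
    · obtain ⟨e⟩ := h
      exact R.of_equiv hZ e (R.lie.e8 hp2)
  · obtain ⟨F, i1, i2, i3, q, hq, h⟩ := h
    rcases h with ⟨h1, ⟨e⟩⟩ | ⟨h1, ⟨e⟩⟩
    · exact R.of_equiv hZ e (R.lie.te6 hp2 q h1)
    · exact R.of_equiv hZ e (R.lie.td4 hp2 q h1)
  · exact absurd h.1 hp2
  · exact absurd h.1 hp2
  · exact R.Ree hK hZ h.2

theorem Rows.of_spor (R : Rows.{u}) (hK : IsQuasisimple K) (hZ : Odd (Nat.card ↥(Subgroup.center K)))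
    (h : IsSporadicGroup (K ⧸ Subgroup.center K)) : HZ K := by
  rcases h with h | h | h | h | h | h | h | h | h | h | h | h | h | h | h | h | h | h |
      h | h | h | h | h | h | h | h
  · exact R.hz_of_noCfg hZ (R.spor.M11 h)
  · exact R.hz_of_noCfg hZ (R.spor.M12 h)
  · exact R.hz_of_noCfg hZ (R.spor.M22 h)
  · exact R.hz_of_noCfg hZ (R.spor.M23 h)
  · exact R.hz_of_noCfg hZ (R.spor.M24 h)
  · exact R.J1 hK hZ h
  · exact R.hz_of_noCfg hZ (R.spor.J2 h)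
  · exact R.hz_of_noCfg hZ (R.spor.J3 h)
  · exact R.hz_of_noCfg hZ (R.spor.J4 h)
  · exact R.hz_of_noCfg hZ (R.spor.Co1 h)
  · exact R.hz_of_noCfg hZ (R.spor.Co2 h)
  · exact R.Co3 hK hZ h
  · exact R.hz_of_noCfg hZ (R.spor.McL h)
  · exact R.hz_of_noCfg hZ (R.spor.HS h)
  · exact R.hz_of_noCfg hZ (R.spor.Suz h)
  · exact R.hz_of_noCfg hZ (R.spor.He h)
  · exact R.hz_of_noCfg hZ (R.spor.Ru h)
  · exact R.hz_of_noCfg hZ (R.spor.ON h)
  · exact R.hz_of_noCfg hZ (R.spor.Ly h)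
  · exact R.hz_of_noCfg hZ (R.spor.Fi22 h)
  · exact R.hz_of_noCfg hZ (R.spor.Fi23 h)
  · exact R.hz_of_noCfg hZ (R.spor.Fi24 h)
  · exact R.hz_of_noCfg hZ (R.spor.HN h)
  · exact R.hz_of_noCfg hZ (R.spor.Th h)
  · exact R.hz_of_noCfg hZ (R.spor.B h)
  · exact R.hz_of_noCfg hZ (R.spor.M h)

theorem nonab_of_quasi (hK : IsQuasisimple K) : ¬ IsMulCommutative (K ⧸ Subgroup.center K) := by
  intro h
  have : IsSimpleGroup (K ⧸ Subgroup.center K) := hK.2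
  have h1 : commutator K ≤ Subgroup.center K := by
    rw [commutator_def, Subgroup.commutator_le]
    intro a _ b _
    have h2 : (QuotientGroup.mk' (Subgroup.center K)) ⁅a, b⁆ = 1 := by
      rw [map_commutatorElement, commutatorElement_eq_one_iff_mul_comm]
      exact h.is_comm.comm _ _
    exact (QuotientGroup.eq_one_iff _).1 h2
  have h2 : commutator K = ⊤ := hK.1.commutator_eq_top
  rw [h2, top_le_iff] at h1
  obtain ⟨a, ha⟩ := exists_ne (1 : K ⧸ Subgroup.center K)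
  obtain ⟨g, rfl⟩ := QuotientGroup.mk_surjective a
  exact ha ((QuotientGroup.eq_one_iff g).2 (by rw [h1]; trivial))

/-- **G1** -/
theorem Rows.g1 (R : Rows.{u}) (hcl : ∀ (S : Type u) [Group S] [Finite S] [IsSimpleGroup S], IsKnownSimple' S)
    (hK : IsQuasisimple K) (hZ : Odd (Nat.card ↥(Subgroup.center K))) : HZ K := by
  have : IsSimpleGroup (K ⧸ Subgroup.center K) := hK.2
  rcases OddHalf.Known.classify (nonab_of_quasi hK) (hcl (K ⧸ Subgroup.center K)) with h | ⟨p, hp, hp2, h⟩ | h | h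
  · obtain ⟨n, hn, ⟨e⟩⟩ := h
    exact R.of_equiv hZ e (R.alt hn)
  · exact R.of_lie hK hZ hp hp2 h
  · rcases h with h | h
    · exact R.of_lie2 hK hZ h
    · exact R.hz_of_noCfg hZ (E_tits h)
  · exact R.of_spor hK hZ h

end

end Cfsg.Agent.H652.KKL
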