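import Cfsg.Agent.KFacts.Co3D4.Model
import Cfsg.Agent.H825.KKL.Tools

/-!
# S4546, row `Co₃`: the class 2A (helper652)

* `no_NS` : no configuration `Cfg0 D x` has an involution `t ∈ D` whose centralizer is the non-split double cover of
  `Sp₆(2)`: the conjugate `t' ∈ D` of `t` is a lift of an involution `h` with 2-dimensional commutator space `W`; the
  lifts of the transvections with direction in `W` lie in a normal 2-subgroup of `C(t) ∩ C(t')`, and have order 4.
* `Q1` : no element of `D` is conjugate to `Z` in `Co₃`.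
-/

set_option autoImplicit false

namespace Cfsg.Agent.H652.KKL

open Cfsg Subgroup Cfsg.Agent.H613.KKL
open Cfsg.Agent.SporRec.TwoSp6.Sp Cfsg.Agent.SporRec.TwoSp6.CInvol
open Cfsg.Agent.SporRec.Co3.Fusion (tC mem_cent InA fused_cases comm_three t_ne)

theorem act_zero (g : S) : act g 0 = 0 := Matrix.mulVec_zero _

/-- The elements of `Sp₆(2)` whose commutator space is in the commutator space of `h` and which fix the fixed points
of `h`. -/
def TT (h : S) : Subgroup S where
  carrier := {s | (∀ x, ∃ y, act s x + x = act h y + y) ∧ ∀ x, act h x = x → act s x = x}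
  one_mem' := ⟨fun x => ⟨0, by rw [act_one, add_self, act_zero, add_zero]⟩, fun x _ => act_one x⟩
  mul_mem' := by
    rintro s s' ⟨h1, h2⟩ ⟨h3, h4⟩
    refine ⟨fun x => ?_, fun x hx => by rw [act_mul, h4 x hx, h2 x hx]⟩
    obtain ⟨y, hy⟩ := h1 (act s' x)
    obtain ⟨y', hy'⟩ := h3 x
    refine ⟨y + y', ?_⟩
    calc act (s * s') x + x = (act s (act s' x) + act s' x) + (act s' x + x) := by
          rw [act_mul, add_assoc, ← add_assoc (act s' x) (act s' x) x, add_self, zero_add]
      _ = (act h y + y) + (act h y' + y') := by rw [hy, hy']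
      _ = act h (y + y') + (y + y') := by rw [act_add]; abel
  inv_mem' := by
    rintro s ⟨h1, h2⟩
    have h3 : ∀ x, act s (act s⁻¹ x) = x := fun x => by rw [← act_mul, mul_inv_cancel, act_one]
    refine ⟨fun x => ?_, fun x hx => ?_⟩
    · obtain ⟨y, hy⟩ := h1 (act s⁻¹ x)
      exact ⟨y, by rw [← hy, h3, add_comm]⟩
    · calc act s⁻¹ x = act s⁻¹ (act s x) := by rw [h2 x hx]
        _ = x := by rw [← act_mul, inv_mul_cancel, act_one]

theorem mem_TT {h s : S} :
    s ∈ TT h ↔ (∀ x, ∃ y, act s x + x = act h y + y) ∧ ∀ x, act h x = x → act s x = x := Iff.rfl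

theorem TT_sq {h s : S} (hh : h * h = 1) (hs : s ∈ TT h) : s * s = 1 := by
  obtain ⟨h1, h2⟩ := mem_TT.1 hs
  apply act_ext
  intro x
  obtain ⟨y, hy⟩ := h1 x
  have h3 : act s (act h y + y) = act h y + y := by
    apply h2
    rw [act_add, ← act_mul, hh, act_one, add_comm]
  have h4 : act s x = x + (act h y + y) := by
    rw [← hy, add_comm (act s x) x, ← add_assoc, add_self, zero_add]
  rw [act_mul, act_one, h4, act_add, h3, h4, add_assoc, add_self, add_zero]

theorem TT_conj {h s c : S} (hc : c * h = h * c) (hs : s ∈ TT h) : c * s * c⁻¹ ∈ TT h := by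
  obtain ⟨h1, h2⟩ := mem_TT.1 hs
  have h3 : ∀ x, act c (act c⁻¹ x) = x := fun x => by rw [← act_mul, mul_inv_cancel, act_one]
  have h4 : ∀ x, act c (act h x) = act h (act c x) := fun x => by rw [← act_mul, ← act_mul, hc]
  rw [mem_TT]
  refine ⟨fun x => ?_, fun x hx => ?_⟩
  · obtain ⟨y, hy⟩ := h1 (act c⁻¹ x)
    refine ⟨act c y, ?_⟩
    calc act (c * s * c⁻¹) x + x = act c (act s (act c⁻¹ x) + act c⁻¹ x) := by
          rw [act_mul, act_mul, act_add, h3]
      _ = act h (act c y) + act c y := by rw [hy, act_add, h4]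
  · have h5 : act h (act c⁻¹ x) = act c⁻¹ x := by
      have h6 : act c (act h (act c⁻¹ x)) = x := by rw [h4, h3, hx]
      calc act h (act c⁻¹ x) = act c⁻¹ (act c (act h (act c⁻¹ x))) := by
            rw [← act_mul c⁻¹ c, inv_mul_cancel, act_one]
        _ = act c⁻¹ x := by rw [h6]
    rw [act_mul, act_mul, h2 _ h5, h3]

theorem act_three {u w : V} (ho : om u w = 0) (x : V) :
    act (tr u * tr w * tr (u + w)) x = x + (om x w • u + om x u • w) := by
  have e3 : om w u = 0 := by rw [om_symm, ho]
  have z2 : (1 + 1 : ZMod 2) = 0 := by decide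
  rcases om_cases x u with a | a <;> rcases om_cases x w with b | b <;>
    simp only [act_mul, act_tr, om_add, om_add', om_self, ho, e3, a, b, add_zero, zero_add, zero_smul, one_smul, z2]
  · rw [add_assoc, add_assoc, add_self, add_zero]
  · rw [add_comm u w, add_assoc, add_assoc, add_self, add_zero]
  · rw [add_comm u w, add_assoc]

/-- The transvections with direction in the commutator space of `h`. -/
theorem tr_mem {u w : V} (hw : w ≠ 0) (hne : w ≠ u) (ho : om u w = 0) :
    tr u ∈ TT (tr u * tr w * tr (u + w)) := by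
  rw [mem_TT]
  refine ⟨fun x => ?_, fun x hx => ?_⟩
  · obtain ⟨a, ha, ha'⟩ := exists_om_one_zero hw hne
    refine ⟨om x u • a, ?_⟩
    rw [act_three ho, act_tr]
    rcases om_cases x u with h | h
    · rw [h, zero_smul, zero_smul, add_zero, add_self]
      have e0 : ∀ y : V, om 0 y = 0 := fun y => by rw [← add_self y, om_add', om_self, add_zero]
      rw [e0, e0, zero_smul, zero_smul, add_zero, add_zero, add_zero]
    · rw [h, one_smul, one_smul, om_symm a w, ha, om_symm a u, ha', one_smul, zero_smul, add_zero, add_comm x u,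
        add_assoc, add_self, add_comm a u, add_assoc, add_self]
  · rw [act_three ho] at hx
    have h1 : om x w • u + om x u • w = 0 := by
      have h2 : x + (om x w • u + om x u • w) = x + 0 := by rw [hx, add_zero]
      exact add_left_cancel h2
    rw [act_tr]
    rcases om_cases x u with h | h
    · rw [h, zero_smul, add_zero]
    · exfalso
      rw [h, one_smul] at h1
      rcases om_cases x w with h2 | h2
      · rw [h2, zero_smul, zero_add] at h1
        exact hw h1
      · rw [h2, one_smul] at h1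
        exact hne (Cfsg.Agent.SporRec.TwoSp6.Invol.eq_of_add_eq_zero h1).symm

/-- **The kill.** No configuration has an involution with centralizer the non-split double cover of `Sp₆(2)`. -/
theorem no_NS {G : Type*} [Group G] {t : G} {π : centralizer ({t} : Set G) →* S} (N : NS (tC t) π)
    {D : Subgroup G} {x : G} (h : Cfg0 D x) : t ∉ D := by
  intro ht
  have ht1 : t ≠ 1 := t_ne N
  -- a second involution of `D`
  obtain ⟨d, hd, hd1, hdt⟩ : ∃ d ∈ D, d ≠ 1 ∧ d ≠ t := by
    by_contra hcon
    push Not at hcon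
    have h1 : (D : Set G) ⊆ {1, t} := by
      intro d hd
      by_cases h1 : d = 1
      · exact Or.inl h1
      · exact Or.inr (hcon d hd h1)
    have h2 := Set.ncard_le_ncard h1 (Set.toFinite _)
    have h3 : (D : Set G).ncard = 8 := by rw [← h.e8.card]; exact (Nat.card_coe_set_eq _).symm
    rw [h3, Set.ncard_pair ht1.symm] at h2
    omega
  have hcom : d * t = t * d := H825.KKL.cfg0_comm h d hd t ht
  obtain ⟨g, hg⟩ := isConj_iff.1 (H825.KKL.cfg0_pure h ht ht1 hd hd1)
  have hA : InA π d := by
    rcases fused_cases N (g := g) (by rw [hg]; exact hcom) with h1 | h1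
    · exact absurd (hg.symm.trans h1) hdt
    · rwa [hg] at h1
  obtain ⟨hm, u, w, hu, hw, hne, ho, e⟩ := hA
  obtain ⟨p, hp⟩ := N.surj (tr u)
  set δ : centralizer ({t} : Set G) := ⟨d, hm⟩ with hδ
  have hδ2 : δ * δ = 1 := Subtype.ext (h.e8.inv d hd)
  have hπ2 : π δ * π δ = 1 := by rw [← map_mul, hδ2, map_one]
  have hpδ : p * δ = δ * p :=
    comm_three N hu hw hne (add_ne_zero' hne) (add_ne_left hw) ho (by rw [om_add, om_self, ho, add_zero]) e hp
  have hpT : π p ∈ TT (π δ) := by rw [hp, e]; exact tr_mem hw hne ho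
  -- the normal subgroup
  set P : Subgroup (centralizer ({t} : Set G)) := (TT (π δ)).comap π ⊓ centralizer {δ} with hP
  have hPD : P.map (centralizer ({t} : Set G)).subtype ≤ D := by
    have hcc : ∀ c : G, c ∈ centralizer ((closure {t, d} : Subgroup G) : Set G) ↔ c * t = t * c ∧ c * d = d * c := by
      intro c
      rw [centralizer_closure, mem_centralizer_iff]
      constructor
      · intro h1
        exact ⟨(h1 t (Or.inl rfl)).symm, (h1 d (Or.inr rfl)).symm⟩
      · rintro ⟨h1, h2⟩ r (rfl | rfl)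
        · exact h1.symm
        · exact h2.symm
    refine h.rad (closure {t, d}) ((closure_le D).2 ?_) _ ?_ ?_ ?_
    · rintro r (rfl | rfl)
      · exact ht
      · exact hd
    · intro ⟨y, hy⟩
      obtain ⟨m, hmP, rfl⟩ := hy
      refine ⟨2, ?_⟩
      apply Subtype.ext
      show ((centralizer ({t} : Set G)).subtype m) ^ (2 ^ 2) = 1
      rw [← map_pow]
      have h1 : π (m * m) = 1 := by
        rw [map_mul]
        exact TT_sq hπ2 hmP.1
      have h2 : m ^ (2 ^ 2) = 1 := by
        have h3 : m ^ (2 ^ 2) = (m * m) * (m * m) := by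
          rw [show 2 ^ 2 = 2 + 2 from rfl, pow_add, pow_two]
        rw [h3]
        rcases N.ker _ h1 with h4 | h4
        · rw [h4, one_mul]
        · rw [h4, N.z_sq]
      rw [h2, map_one]
    · rintro _ ⟨m, hmP, rfl⟩
      rw [hcc]
      refine ⟨mem_cent.1 m.2, ?_⟩
      have h1 : m * δ = δ * m := mem_centralizer_singleton_iff.1 hmP.2
      exact congrArg Subtype.val h1
    · rintro c hc _ ⟨m, hmP, rfl⟩
      rw [hcc] at hc
      obtain ⟨c1, c2⟩ := hc
      set γ : centralizer ({t} : Set G) := ⟨c, mem_cent.2 c1⟩ with hγ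
      have c3 : γ * δ = δ * γ := Subtype.ext c2
      refine ⟨γ * m * γ⁻¹, ⟨?_, ?_⟩, rfl⟩
      · show π (γ * m * γ⁻¹) ∈ TT (π δ)
        rw [map_mul, map_mul, map_inv]
        exact TT_conj (by rw [← map_mul, c3, map_mul]) hmP.1
      · have h1 : γ ∈ centralizer ({δ} : Set (centralizer ({t} : Set G))) := mem_centralizer_singleton_iff.2 c3
        exact Subgroup.mul_mem _ (Subgroup.mul_mem _ h1 hmP.2) (Subgroup.inv_mem _ h1)
  have hpD : (p : G) ∈ D := hPD ⟨p, ⟨hpT, mem_centralizer_singleton_iff.2 hpδ⟩, rfl⟩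
  have h1 := h.e8.inv _ hpD
  have h2 : (p : G) * p = t := congrArg Subtype.val (N.sq u hu p hp)
  exact ht1 (h2.symm.trans h1)

open Cfsg.Agent.SporRec.Co3.Chain Cfsg.Agent.SporRec.Co3.Ident in
/-- No element of a configuration in `Co₃` is conjugate to `Z`. -/
theorem Q1 {D : Subgroup G3} {x : G3} (h : Cfg0 D x) {d : G3} (hd : d ∈ D) : ¬ IsConj Z d := by
  intro hc
  obtain ⟨D', x', h', hz⟩ := H825.KKL.exists_conj h hd hc.symm
  obtain ⟨π, N⟩ := KFacts.Co3D4.exists_NS_G3
  exact no_NS N h' hz

end Cfsg.Agent.H652.KKL
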